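import Mathlib.FieldTheory.RatFunc.Degree
import Mathlib.FieldTheory.IntermediateField.Adjoin.Algebra
import Mathlib.Algebra.Polynomial.Taylor
import Mathlib.Algebra.Polynomial.HasseDeriv
import Mathlib.GroupTheory.Archimedean
import Mathlib.RingTheory.AlgebraicIndependent.Transcendental

/-!
# A field with a non-trivial rational co-action of the additive or multiplicative group

If a field `F` over `K` carries `Φ : F → F(t)` satisfying the identities of a group action, then
`F = F₀(u)` with `u` transcendental over the field of invariants `F₀`.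
-/

set_option autoImplicit false

universe u

open Polynomial

namespace Groth.Agent.GaGmBirLib

noncomputable section

variable {F : Type u} [Field F]

/-- `am P`: a polynomial as a rational function. -/
abbrev am : F[X] →+* RatFunc F := algebraMap F[X] (RatFunc F)

theorem am_injective : Function.Injective (am (F := F)) := IsFractionRing.injective _ _

theorem am_C (c : F) : am (C c) = RatFunc.C c := RatFunc.algebraMap_C c

theorem am_X : am (X : F[X]) = RatFunc.X := RatFunc.algebraMap_X

/-- Substitution for translations. -/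
def sigmaGa : F[X] →+* (RatFunc F)[X] :=
  (compRingHom (X + C RatFunc.X)).comp (mapRingHom (RatFunc.C : F →+* RatFunc F))

/-- Substitution for homotheties. -/
def sigmaGm : F[X] →+* (RatFunc F)[X] :=
  (compRingHom (C RatFunc.X * X)).comp (mapRingHom (RatFunc.C : F →+* RatFunc F))

theorem sigmaGa_apply (p : F[X]) :
    sigmaGa p = (p.map (RatFunc.C : F →+* RatFunc F)).comp (X + C RatFunc.X) := rfl

theorem sigmaGm_apply (p : F[X]) :
    sigmaGm p = (p.map (RatFunc.C : F →+* RatFunc F)).comp (C RatFunc.X * X) := rfl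

theorem injective_comp_linear {R : Type u} [Field R] {q : R[X]} (hq : q.natDegree ≠ 0) :
    Function.Injective (compRingHom q) := by
  refine (injective_iff_map_eq_zero _).2 fun p hp => ?_
  have h : p.comp q = 0 := hp
  rcases comp_eq_zero_iff.1 h with h | ⟨-, h⟩
  · exact h
  · exact absurd (by rw [h, natDegree_C]) hq

theorem sigmaGa_injective : Function.Injective (sigmaGa (F := F)) := by
  rw [sigmaGa, RingHom.coe_comp]
  refine (injective_comp_linear ?_).comp (map_injective _ (RingHom.injective _))
  rw [natDegree_X_add_C]; exact one_ne_zero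

theorem sigmaGm_injective : Function.Injective (sigmaGm (F := F)) := by
  rw [sigmaGm, RingHom.coe_comp]
  refine (injective_comp_linear ?_).comp (map_injective _ (RingHom.injective _))
  rw [natDegree_C_mul RatFunc.X_ne_zero, natDegree_X]; exact one_ne_zero

/-- The identities satisfied by the co-action on a field of rational functions. -/
structure Coact (e : F) (σ : F[X] →+* (RatFunc F)[X]) (Φ : F →+* RatFunc F) : Prop where
  /-- the co-action is defined at the neutral element, where it is the identity -/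
  eval : ∀ f, ∃ P Q : F[X], Q.eval e ≠ 0 ∧ Φ f * am Q = am P ∧ P.eval e = f * Q.eval e
  /-- associativity -/
  assoc : ∀ f, (Φ f).num.map Φ * σ (Φ f).denom = σ (Φ f).num * (Φ f).denom.map Φ

theorem num_mul_eq {x : RatFunc F} {P Q : F[X]} (h : x * am Q = am P) :
    x.num * Q = P * x.denom := by
  apply am_injective
  have hd : am x.denom ≠ 0 := (map_ne_zero_iff _ am_injective).2 x.denom_ne_zero
  rw [map_mul, map_mul, ← h]
  have hx : x * am x.denom = am x.num := by
    conv_lhs => arg 1; rw [← RatFunc.num_div_denom x]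
    exact div_mul_cancel₀ _ hd
  rw [← hx]; ring

variable {e : F} {σ : F[X] →+* (RatFunc F)[X]} {Φ : F →+* RatFunc F}

theorem Coact.denom_eval (h : Coact e σ Φ) (f : F) :
    (Φ f).denom.eval e ≠ 0 ∧ (Φ f).num.eval e = f * (Φ f).denom.eval e := by
  obtain ⟨P, Q, hQ, hPQ, hP⟩ := h.eval f
  have hnq := num_mul_eq hPQ
  have hdvd : (Φ f).denom ∣ Q :=
    (RatFunc.isCoprime_num_denom (Φ f)).symm.dvd_of_dvd_mul_left ⟨P, by rw [hnq]; ring⟩
  have hd : (Φ f).denom.eval e ≠ 0 := fun h0 => hQ (by
    obtain ⟨T, hT⟩ := hdvd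
    rw [hT, eval_mul, h0, zero_mul])
  refine ⟨hd, ?_⟩
  have := congrArg (Polynomial.eval e) hnq
  rw [eval_mul, eval_mul, hP] at this
  have h2 : ((Φ f).num.eval e - f * (Φ f).denom.eval e) * Q.eval e = 0 := by linear_combination this
  exact sub_eq_zero.1 ((mul_eq_zero.1 h2).resolve_right hQ)

theorem Coact.assoc_of_monic (h : Coact e σ Φ) (f : F) (c : RatFunc F) (hc : c ≠ 0)
    (hlead : (σ (Φ f).denom).leadingCoeff = c) :
    σ (Φ f).denom = C c * (Φ f).denom.map Φ ∧ σ (Φ f).num = C c * (Φ f).num.map Φ := by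
  set p := (Φ f).num
  set q := (Φ f).denom
  have hq : q.Monic := RatFunc.monic_denom _
  have hco : IsCoprime p q := RatFunc.isCoprime_num_denom _
  have heq : p.map Φ * σ q = σ p * q.map Φ := h.assoc f
  have h1 : q.map Φ ∣ σ q :=
    ((hco.map (mapRingHom Φ)).symm).dvd_of_dvd_mul_left ⟨σ p, by
      show p.map Φ * σ q = q.map Φ * σ p
      rw [heq]; ring⟩
  have h2 : σ q ∣ q.map Φ :=
    ((hco.map σ).symm).dvd_of_dvd_mul_left ⟨p.map Φ, by rw [← heq]; ring⟩
  have hm : (C c⁻¹ * σ q).Monic := monic_C_mul_of_mul_leadingCoeff_eq_one (by rw [hlead, inv_mul_cancel₀ hc])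
  have hu : IsUnit (C c⁻¹ : (RatFunc F)[X]) := isUnit_C.2 (inv_ne_zero hc).isUnit
  have hqq : σ q = C c * q.map Φ := by
    have := eq_of_monic_of_associated hm (hq.map Φ)
      ((associated_unit_mul_left _ _ hu).trans (associated_of_dvd_dvd h2 h1))
    rw [← this, ← mul_assoc, ← C_mul, mul_inv_cancel₀ hc, C_1, one_mul]
  refine ⟨hqq, ?_⟩
  have hne : q.map Φ ≠ 0 := (hq.map Φ).ne_zero
  refine mul_right_cancel₀ hne ?_
  rw [← heq, hqq]; ring

/-- The invariants of `Φ`. -/
def invariants (Φ : F →+* RatFunc F) : Subfield F := Φ.eqLocusField (RatFunc.C : F →+* RatFunc F)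

theorem mem_invariants {c : F} : c ∈ invariants Φ ↔ Φ c = RatFunc.C c := Iff.rfl

section Over

variable {K : Type u} [Field K] [Algebra K F]

/-- The invariants as an intermediate field. -/
def inv₀ (Φ : F →+* RatFunc F) (hK : ∀ k, Φ (algebraMap K F k) = RatFunc.C (algebraMap K F k)) :
    IntermediateField K F :=
  { invariants Φ with algebraMap_mem' := hK }

theorem mem_inv₀ {hK : ∀ k, Φ (algebraMap K F k) = RatFunc.C (algebraMap K F k)} {c : F} :
    c ∈ inv₀ Φ hK ↔ Φ c = RatFunc.C c := Iff.rfl

variable (hK : ∀ k, Φ (algebraMap K F k) = RatFunc.C (algebraMap K F k))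

/-- An element with a non-constant polynomial image is transcendental over the invariants. -/
theorem transcendental_of_param (u : F) (pu : F[X]) (hpu : pu.natDegree ≠ 0) (hu : Φ u = am pu) :
    Transcendental (inv₀ Φ hK) u := by
  rw [transcendental_iff]
  intro p hp
  have h1 : (p.map (algebraMap (inv₀ Φ hK) F)).comp pu = 0 := by
    apply am_injective
    rw [map_zero, ← map_zero Φ, ← hp, aeval_def, hom_eval₂, hu, comp, eval₂_map,
      hom_eval₂]
    congr 1
    ext c
    show am (C (c : F)) = Φ c
    rw [am_C]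
    exact (mem_inv₀.1 c.2).symm
  refine map_injective _ (algebraMap (inv₀ Φ hK) F).injective ?_
  rw [Polynomial.map_zero]
  rcases comp_eq_zero_iff.1 h1 with h | ⟨-, h⟩
  · exact h
  · exact absurd (by rw [h, natDegree_C]) hpu

theorem Coact.mem_of_coeff (h : Coact e σ Φ) (L : IntermediateField K F)
    (hc : ∀ f j, (Φ f).num.coeff j ∈ L ∧ (Φ f).denom.coeff j ∈ L) (he : e ∈ L) (f : F) : f ∈ L := by
  obtain ⟨hd, hn⟩ := h.denom_eval f
  have hev : ∀ p : F[X], (∀ j, p.coeff j ∈ L) → p.eval e ∈ L := fun p hp => by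
    rw [eval_eq_sum_range]
    exact sum_mem fun j _ => L.mul_mem (hp j) (pow_mem he j)
  rw [show f = (Φ f).num.eval e / (Φ f).denom.eval e by rw [hn, mul_div_cancel_right₀ _ hd]]
  exact L.div_mem (hev _ fun j => (hc f j).1) (hev _ fun j => (hc f j).2)

end Over

end

end Groth.Agent.GaGmBirLib
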