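import Groth.Agent.GaGmBirLib.Alg

/-!
# The field of a non-trivial additive co-action
-/

set_option autoImplicit false

universe u

open Polynomial

namespace Groth.Agent.GaGmBirLib

noncomputable section

variable {F : Type u} [Field F] {Φ : F →+* RatFunc F}

theorem sigmaGa_coeff (p : F[X]) (j : ℕ) : (sigmaGa p).coeff j = am (hasseDeriv j p) := by
  have hmap : hasseDeriv j (p.map (RatFunc.C : F →+* RatFunc F)) =
      (hasseDeriv j p).map (RatFunc.C : F →+* RatFunc F) := by
    ext n
    simp [hasseDeriv_coeff]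
  have : sigmaGa p = taylor RatFunc.X (p.map (RatFunc.C : F →+* RatFunc F)) := by
    rw [sigmaGa_apply]; rfl
  rw [this, taylor_coeff, hmap, eval_map, ← am_X]
  conv_rhs => rw [← eval₂_C_X (p := hasseDeriv j p), hom_eval₂]
  rfl

variable (h : Coact 0 sigmaGa Φ)
include h

theorem ga_coeff_eq (f : F) (j : ℕ) :
    Φ ((Φ f).num.coeff j) = am (hasseDeriv j (Φ f).num) ∧
      Φ ((Φ f).denom.coeff j) = am (hasseDeriv j (Φ f).denom) := by
  have hl : (sigmaGa (Φ f).denom).leadingCoeff = 1 := by
    rw [sigmaGa_apply]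
    exact (((RatFunc.monic_denom (Φ f)).map _).comp_X_add_C _).leadingCoeff
  obtain ⟨h1, h2⟩ := h.assoc_of_monic f 1 one_ne_zero hl
  rw [C_1, one_mul] at h1 h2
  refine ⟨?_, ?_⟩
  · rw [← sigmaGa_coeff, h2, coeff_map]
  · rw [← sigmaGa_coeff, h1, coeff_map]

theorem ga_poly_coeff {b : F} {p : F[X]} (hp : Φ b = am p) (j : ℕ) :
    Φ (p.coeff j) = am (hasseDeriv j p) := by
  have := (ga_coeff_eq h b j).1
  rwa [hp, RatFunc.num_algebraMap] at this

theorem ga_lead_const {b : F} {p : F[X]} (hp : Φ b = am p) :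
    Φ (p.coeff p.natDegree) = RatFunc.C (p.coeff p.natDegree) := by
  rw [ga_poly_coeff h hp, ← am_C]
  congr 1
  ext i
  rw [hasseDeriv_coeff, coeff_C]
  rcases Nat.eq_zero_or_pos i with rfl | hi
  · simp
  · rw [coeff_eq_zero_of_natDegree_lt (by omega : p.natDegree < i + p.natDegree), mul_zero,
      if_neg (by omega)]

theorem ga_const {b : F} {p : F[X]} (hp : Φ b = am p) (h0 : p.natDegree = 0) : Φ b = RatFunc.C b := by
  obtain ⟨hd, hn⟩ := h.denom_eval b
  rw [hp, RatFunc.num_algebraMap, RatFunc.denom_algebraMap, eval_one, mul_one,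
    ← coeff_zero_eq_eval_zero] at hn
  rw [hp, eq_C_of_natDegree_eq_zero h0, hn, am_C]

omit h in
theorem cast_choose_eq_one {n m : ℕ} (hn : ∀ j, 0 < j → j < n → ((n.choose j : ℕ) : F) = 0) :
    ((m.choose (m % n) : ℕ) : F) = 1 := by
  rcases Nat.eq_zero_or_pos n with rfl | hn0
  · simp
  have key : ((X : F[X]) + 1) ^ n = X ^ n + 1 := by
    ext i
    rw [coeff_X_add_one_pow, coeff_add, coeff_X_pow, coeff_one]
    rcases lt_trichotomy i n with hi | hi | hi
    · rcases Nat.eq_zero_or_pos i with rfl | hi0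
      · simp [hn0.ne]
      · simp [hn i hi0 hi, hi.ne, hi0.ne']
    · subst hi; simp [hn0.ne']
    · simp [Nat.choose_eq_zero_of_lt hi, hi.ne', (hn0.trans hi).ne']
  have hr : m % n < n := Nat.mod_lt m hn0
  have hd : (X : F[X]) ^ n ∣ ((X : F[X]) + 1) ^ m - (X + 1) ^ (m % n) := by
    conv in ((X : F[X]) + 1) ^ m => rw [← Nat.div_add_mod m n, pow_add, pow_mul, key]
    rw [← sub_one_mul]
    refine Dvd.dvd.mul_right ?_ _
    have := sub_one_dvd_pow_sub_one ((X : F[X]) ^ n + 1) (m / n)
    rwa [add_sub_cancel_right] at this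
  have := X_pow_dvd_iff.1 hd _ hr
  rw [coeff_sub, sub_eq_zero, coeff_X_add_one_pow, coeff_X_add_one_pow, Nat.choose_self] at this
  exact_mod_cast this

/-- The field of a non-trivial additive co-action is purely transcendental of degree one over the invariants. -/
theorem ga_structure {K : Type u} [Field K] [Algebra K F]
    (hK : ∀ k, Φ (algebraMap K F k) = RatFunc.C (algebraMap K F k))
    (hne : Φ ≠ (RatFunc.C : F →+* RatFunc F)) :
    ∃ u : F, Transcendental (inv₀ Φ hK) u ∧
      IntermediateField.adjoin K ((inv₀ Φ hK : Set F) ∪ {u}) = ⊤ := by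
  classical
  let P : ℕ → Prop := fun n => n ≠ 0 ∧ ∃ (b : F) (p : F[X]), Φ b = am p ∧ p.natDegree = n
  have hP : ∃ n, P n := by
    by_contra hc
    apply hne
    ext f
    refine (mem_inv₀ (hK := hK)).1 (h.mem_of_coeff (inv₀ Φ hK) (fun f j => ?_) (zero_mem _) f)
    have key : ∀ b p, Φ b = am p → b ∈ inv₀ Φ hK := fun b p hbp =>
      mem_inv₀.2 (ga_const h hbp (by_contra fun hd => hc ⟨_, hd, b, p, hbp, rfl⟩))
    exact ⟨key _ _ (ga_coeff_eq h f j).1, key _ _ (ga_coeff_eq h f j).2⟩
  let n := Nat.find hP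
  obtain ⟨hn0, u, pu, hu, hpu⟩ := Nat.find_spec hP
  have hmin : ∀ b p, Φ b = am p → p.natDegree < n → p.natDegree = 0 := fun b p hbp hlt =>
    by_contra fun hd => Nat.find_min hP hlt ⟨hd, b, p, hbp, rfl⟩
  refine ⟨u, transcendental_of_param hK u pu (by omega) hu, ?_⟩
  set L := IntermediateField.adjoin K ((inv₀ Φ hK : Set F) ∪ {u})
  have hF0 : ∀ c, Φ c = RatFunc.C c → c ∈ L := fun c hc =>
    IntermediateField.subset_adjoin K _ (Or.inl (mem_inv₀.2 hc))
  have huL : u ∈ L := IntermediateField.subset_adjoin K _ (Or.inr rfl)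
  -- the degree of a coefficient
  have hdeg : ∀ (p : F[X]) (j : ℕ), j ≤ p.natDegree → p ≠ 0 →
      ((p.natDegree.choose j : ℕ) : F) ≠ 0 → (hasseDeriv j p).natDegree = p.natDegree - j := by
    intro p j hj hp hc
    refine le_antisymm (natDegree_hasseDeriv_le p j) (le_natDegree_of_ne_zero ?_)
    rw [hasseDeriv_coeff, Nat.sub_add_cancel hj]
    exact mul_ne_zero hc (leadingCoeff_ne_zero.2 hp)
  have hchoose : ∀ j, 0 < j → j < n → ((n.choose j : ℕ) : F) = 0 := by
    intro j hj0 hjn
    by_contra hc
    have hd := hdeg pu j (by omega) (by rintro rfl; simp at hpu; omega) (by rwa [hpu])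
    have := hmin _ _ (ga_poly_coeff h hu j) (by omega)
    omega
  have key : ∀ (m : ℕ) (b : F) (p : F[X]), Φ b = am p → p.natDegree = m → b ∈ L := by
    intro m
    induction m using Nat.strong_induction_on with
    | _ m ih =>
      intro b p hbp hm
      rcases Nat.eq_zero_or_pos m with rfl | hm0
      · exact hF0 _ (ga_const h hbp hm)
      have hp0 : p ≠ 0 := by rintro rfl; simp at hm; omega
      -- the degree is a multiple of `n`
      have hdvd : m % n = 0 := by
        by_contra hr
        have hrn : m % n < n := Nat.mod_lt m (Nat.pos_of_ne_zero hn0)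
        have hrm : m % n ≤ m := Nat.mod_le m n
        have hc : ((p.natDegree.choose (m - m % n) : ℕ) : F) ≠ 0 := by
          rw [hm, Nat.choose_symm hrm, cast_choose_eq_one hchoose]
          exact one_ne_zero
        have hd := hdeg p (m - m % n) (by omega) hp0 hc
        have := hmin _ _ (ga_poly_coeff h hbp (m - m % n)) (by omega)
        omega
      set q := m / n with hq
      have hmq : m = q * n := by rw [hq]; exact (Nat.div_mul_cancel (Nat.dvd_of_mod_eq_zero hdvd)).symm
      let a := p.coeff p.natDegree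
      let a' := pu.coeff pu.natDegree
      have ha' : a' ≠ 0 := leadingCoeff_ne_zero.2 (by rintro rfl; simp at hpu; omega)
      let c := a / a' ^ q
      have hc : Φ c = RatFunc.C c := by
        simp only [c, map_div₀, map_pow]
        rw [ga_lead_const h hbp, ga_lead_const h hu]
      let p' := p - C c * pu ^ q
      have hb' : Φ (b - c * u ^ q) = am p' := by
        rw [map_sub, map_mul, map_pow, hbp, hu, hc, map_sub, map_mul, map_pow, am_C]
      have hlt : p'.natDegree < m := by
        have hle : p'.natDegree ≤ m := by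
          refine (natDegree_sub_le _ _).trans (max_le hm.le ?_)
          refine (natDegree_C_mul_le _ _).trans (natDegree_pow_le.trans ?_)
          rw [hpu, hmq]
        have h0 : p'.coeff m = 0 := by
          rw [coeff_sub, coeff_C_mul, show m = (pu ^ q).natDegree by rw [natDegree_pow, hpu, hmq],
            coeff_natDegree, leadingCoeff_pow, natDegree_pow, hpu, ← hmq, ← hm]
          show a - a / a' ^ q * a' ^ q = 0
          rw [div_mul_cancel₀ _ (pow_ne_zero _ ha'), sub_self]
        refine lt_of_le_of_ne hle fun he => ?_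
        have : p' = 0 := leadingCoeff_eq_zero.1 (by rw [leadingCoeff, he, h0])
        rw [this, natDegree_zero] at he
        omega
      have hmem : b - c * u ^ q ∈ L := ih _ hlt _ _ hb' rfl
      have := L.add_mem hmem (L.mul_mem (hF0 _ hc) (pow_mem huL q))
      rwa [sub_add_cancel] at this
  refine eq_top_iff.2 fun f _ => h.mem_of_coeff L (fun f j => ?_) (zero_mem _) f
  exact ⟨key _ _ _ (ga_coeff_eq h f j).1 rfl, key _ _ _ (ga_coeff_eq h f j).2 rfl⟩

end

end Groth.Agent.GaGmBirLib
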