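import Groth.Agent.GaGmBirLib.Alg

/-!
# The field of a non-trivial multiplicative co-action
-/

set_option autoImplicit false

universe u

open Polynomial

namespace Groth.Agent.GaGmBirLib

noncomputable section

variable {F : Type u} [Field F] {Φ : F →+* RatFunc F}

theorem sigmaGm_coeff (p : F[X]) (j : ℕ) :
    (sigmaGm p).coeff j = RatFunc.C (p.coeff j) * RatFunc.X ^ j := by
  rw [sigmaGm_apply, comp_C_mul_X_coeff, coeff_map]

/-- `b` is semi-invariant of weight `n`. -/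
def SemiInv (Φ : F →+* RatFunc F) (b : F) (n : ℤ) : Prop := Φ b = RatFunc.C b * RatFunc.X ^ n

theorem gm_coeff_semiInv (h : Coact 1 sigmaGm Φ) (f : F) (j : ℕ) :
    (∃ n, SemiInv Φ ((Φ f).num.coeff j) n) ∧ ∃ n, SemiInv Φ ((Φ f).denom.coeff j) n := by
  set d := (Φ f).denom.natDegree
  have hl : (sigmaGm (Φ f).denom).leadingCoeff = RatFunc.X ^ d := by
    rw [sigmaGm_apply, leadingCoeff_comp (by rw [natDegree_C_mul RatFunc.X_ne_zero, natDegree_X]; exact one_ne_zero),
      ((RatFunc.monic_denom (Φ f)).map _).leadingCoeff, one_mul, leadingCoeff_mul, leadingCoeff_C,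
      leadingCoeff_X, mul_one, natDegree_map]
  obtain ⟨h1, h2⟩ := h.assoc_of_monic f _ (pow_ne_zero d RatFunc.X_ne_zero) hl
  have key : ∀ p : F[X], sigmaGm p = C (RatFunc.X ^ d) * p.map Φ →
      ∃ n, SemiInv Φ (p.coeff j) n := by
    intro p hp
    have := congrArg (fun q => q.coeff j) hp
    simp only [coeff_C_mul, coeff_map, sigmaGm_coeff] at this
    refine ⟨(j : ℤ) - d, ?_⟩
    rw [SemiInv, zpow_sub₀ RatFunc.X_ne_zero, zpow_natCast, zpow_natCast]
    rw [← mul_div_assoc, this, mul_div_cancel_left₀ _ (pow_ne_zero d RatFunc.X_ne_zero)]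
  exact ⟨key _ h2, key _ h1⟩

/-- The group of weights. -/
def weights (Φ : F →+* RatFunc F) : AddSubgroup ℤ where
  carrier := {n | ∃ b : F, b ≠ 0 ∧ SemiInv Φ b n}
  zero_mem' := ⟨1, one_ne_zero, by simp [SemiInv]⟩
  add_mem' := by
    rintro m n ⟨b, hb, hbm⟩ ⟨c, hc, hcn⟩
    refine ⟨b * c, mul_ne_zero hb hc, ?_⟩
    rw [SemiInv, map_mul, hbm, hcn, map_mul, zpow_add₀ RatFunc.X_ne_zero]
    ring
  neg_mem' := by
    rintro n ⟨b, hb, hbn⟩
    refine ⟨b⁻¹, inv_ne_zero hb, ?_⟩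
    rw [SemiInv, map_inv₀, hbn, map_inv₀, mul_inv, zpow_neg]

/-- The field of a non-trivial multiplicative co-action is purely transcendental of degree one over the invariants. -/
theorem gm_structure (h : Coact 1 sigmaGm Φ) {K : Type u} [Field K] [Algebra K F]
    (hK : ∀ k, Φ (algebraMap K F k) = RatFunc.C (algebraMap K F k))
    (hne : Φ ≠ (RatFunc.C : F →+* RatFunc F)) :
    ∃ u : F, Transcendental (inv₀ Φ hK) u ∧
      IntermediateField.adjoin K ((inv₀ Φ hK : Set F) ∪ {u}) = ⊤ := by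
  obtain ⟨d, hd⟩ := Int.subgroup_cyclic (weights Φ)
  have hd0 : d ≠ 0 := by
    rintro rfl
    apply hne
    ext f
    refine (mem_inv₀ (hK := hK)).1 (h.mem_of_coeff (inv₀ Φ hK) (fun f j => ?_) (one_mem _) f)
    have key : ∀ b, (∃ n, SemiInv Φ b n) → b ∈ inv₀ Φ hK := by
      rintro b ⟨n, hn⟩
      rcases eq_or_ne b 0 with rfl | hb
      · exact zero_mem _
      have hmem : n ∈ AddSubgroup.closure ({0} : Set ℤ) := hd ▸ ⟨b, hb, hn⟩
      rw [AddSubgroup.mem_closure_singleton] at hmem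
      obtain ⟨k, hk⟩ := hmem
      rw [smul_zero] at hk
      subst hk
      rw [mem_inv₀, show Φ b = _ from hn, zpow_zero, mul_one]
    exact ⟨key _ (gm_coeff_semiInv h f j).1, key _ (gm_coeff_semiInv h f j).2⟩
  have habs : ((Int.natAbs d : ℕ) : ℤ) ∈ weights Φ := by
    have hmem : d ∈ weights Φ := hd ▸ AddSubgroup.subset_closure rfl
    rcases Int.natAbs_eq d with h1 | h1
    · rw [← h1]; exact hmem
    · rw [show ((Int.natAbs d : ℕ) : ℤ) = -d by omega]; exact neg_mem hmem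
  obtain ⟨u, hu0, hu⟩ := habs
  rw [SemiInv, zpow_natCast] at hu
  have hu' : Φ u = am (C u * X ^ d.natAbs) := by rw [hu, map_mul, map_pow, am_C, am_X]
  have hdeg : (C u * X ^ d.natAbs : F[X]).natDegree ≠ 0 := by
    rw [natDegree_C_mul_X_pow _ _ hu0]; omega
  refine ⟨u, transcendental_of_param hK u _ hdeg hu', ?_⟩
  set L := IntermediateField.adjoin K ((inv₀ Φ hK : Set F) ∪ {u})
  have huL : u ∈ L := IntermediateField.subset_adjoin K _ (Or.inr rfl)
  have key : ∀ b, (∃ n, SemiInv Φ b n) → b ∈ L := by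
    rintro b ⟨n, hn⟩
    rcases eq_or_ne b 0 with rfl | hb
    · exact zero_mem _
    have hmem : n ∈ AddSubgroup.closure ({d} : Set ℤ) := hd ▸ ⟨b, hb, hn⟩
    rw [AddSubgroup.mem_closure_singleton] at hmem
    obtain ⟨k, hk⟩ := hmem
    obtain ⟨m, hm⟩ : ∃ m : ℤ, n = m * (d.natAbs : ℤ) := by
      rcases Int.natAbs_eq d with h1 | h1
      · exact ⟨k, by rw [← h1, ← hk, smul_eq_mul]⟩
      · exact ⟨-k, by rw [← hk, smul_eq_mul]; linear_combination k * h1⟩
    have hc : b / u ^ m ∈ inv₀ Φ hK := by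
      rw [mem_inv₀, map_div₀, map_zpow₀, show Φ b = _ from hn, hu, hm, mul_zpow, map_div₀, map_zpow₀,
        ← zpow_natCast RatFunc.X d.natAbs, ← zpow_mul, mul_comm (d.natAbs : ℤ) m,
        mul_div_mul_right _ _ (zpow_ne_zero _ RatFunc.X_ne_zero)]
    have := L.mul_mem (IntermediateField.subset_adjoin K _ (Or.inl hc)) (zpow_mem huL m)
    rwa [div_mul_cancel₀ _ (zpow_ne_zero _ hu0)] at this
  refine eq_top_iff.2 fun f _ => h.mem_of_coeff L (fun f j => ?_) (one_mem _) f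
  exact ⟨key _ (gm_coeff_semiInv h f j).1, key _ (gm_coeff_semiInv h f j).2⟩

end

end Groth.Agent.GaGmBirLib
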