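import Groth.Agent.GaGmBirLib.Alg
import Mathlib.RingTheory.Localization.FractionRing
import Mathlib.RingTheory.FiniteType

/-!
# A finitely generated model of the invariant field
-/

set_option autoImplicit false

universe u

open Polynomial

namespace Groth.Agent.GaGmBirLib

/-- If `F/K` is finitely generated and `F = F₀(u)` with `u` transcendental over `F₀`, then `F` is the
fraction field of a polynomial algebra over a finitely generated `K`-domain. -/
theorem exists_model {K F : Type u} [Field K] [Field F] [Algebra K F] [Algebra.EssFiniteType K F]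
    (F₀ : IntermediateField K F) (u : F) (htr : Transcendental F₀ u)
    (htop : IntermediateField.adjoin K ((F₀ : Set F) ∪ {u}) = ⊤) :
    ∃ (A : Type u) (_ : CommRing A) (_ : IsDomain A) (_ : Algebra K A) (_ : Algebra.FiniteType K A)
      (φ : MvPolynomial (ULift.{u} (Fin 1)) A →+* F),
      Function.Injective φ ∧ (∀ k, φ (MvPolynomial.C (algebraMap K A k)) = algebraMap K F k) ∧
      ∀ z : F, ∃ p q, z = φ p / φ q := by
  classical
  obtain ⟨s, hs⟩ := IntermediateField.fg_top (F := K) (E := F)
  have hgen : ∀ x : F, ∃ p q : F₀[X], x = aeval u p / aeval u q := by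
    intro x
    refine (IntermediateField.mem_adjoin_simple_iff (F := F₀) x).1 ?_
    have hx : x ∈ IntermediateField.adjoin K ((F₀ : Set F) ∪ {u}) := htop.symm ▸ IntermediateField.mem_top
    rw [← IntermediateField.restrictScalars_adjoin] at hx
    exact hx
  choose p q hpq using hgen
  let C' : Finset F := s.biUnion fun x => ((p x).support.image fun i => (((p x).coeff i : F₀) : F)) ∪
    ((q x).support.image fun i => (((q x).coeff i : F₀) : F))
  let A : Subalgebra K F := Algebra.adjoin K (C' : Set F)
  have hAF : A ≤ F₀.toSubalgebra := by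
    refine Algebra.adjoin_le fun c hc => ?_
    simp only [C', Finset.coe_biUnion, Set.mem_iUnion, Finset.coe_union, Set.mem_union, Finset.coe_image,
      Set.mem_image] at hc
    rcases hc with ⟨x, -, ⟨i, -, rfl⟩ | ⟨i, -, rfl⟩⟩ <;> exact SetLike.coe_mem _
  haveI : Algebra.FiniteType K A :=
    (Subalgebra.fg_iff_finiteType A).1 (Subalgebra.fg_adjoin_finset C')
  have htrA : Transcendental A u := by
    rw [transcendental_iff]
    intro r hr
    let j : A →+* F₀ := (Subalgebra.inclusion hAF).toRingHom
    have h0 : aeval u (r.map j) = 0 := by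
      rw [aeval_def, eval₂_map, ← hr, aeval_def]
      rfl
    refine map_injective j (Subalgebra.inclusion_injective hAF) ?_
    rw [Polynomial.map_zero]
    exact transcendental_iff.1 htr _ h0
  let φ : MvPolynomial (ULift.{u} (Fin 1)) A →ₐ[K] F := (MvPolynomial.aeval fun _ => u).restrictScalars K
  have hφ : Function.Injective φ :=
    (algebraicIndependent_unique_type_iff (x := fun _ : ULift.{u} (Fin 1) => u)).2 htrA
  refine ⟨A, inferInstance, inferInstance, inferInstance, inferInstance, φ.toRingHom, hφ, fun k => ?_, ?_⟩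
  · exact φ.commutes k
  have hev : ∀ (r : F₀[X]), (∀ i ∈ r.support, ((r.coeff i : F₀) : F) ∈ A) → aeval u r ∈ φ.range := by
    intro r hr
    rw [aeval_def, eval₂_eq_sum, sum_def]
    refine sum_mem fun i hi => ?_
    refine φ.range.mul_mem (φ.mem_range.2 ⟨MvPolynomial.C ⟨_, hr i hi⟩, ?_⟩)
      (φ.range.pow_mem (φ.mem_range.2 ⟨MvPolynomial.X default, ?_⟩) i)
    · exact MvPolynomial.aeval_C _ _
    · exact MvPolynomial.aeval_X _ _
  intro z
  have hz : z ∈ IntermediateField.adjoin K (φ.range : Set F) := by
    refine (?_ : (⊤ : IntermediateField K F) ≤ _) IntermediateField.mem_top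
    rw [← hs, IntermediateField.adjoin_le_iff]
    intro x hx
    rw [SetLike.mem_coe, hpq x]
    refine IntermediateField.div_mem _ (IntermediateField.subset_adjoin _ _ ?_)
      (IntermediateField.subset_adjoin _ _ ?_)
    · exact hev _ fun i hi => Algebra.subset_adjoin (Finset.mem_biUnion.2 ⟨x, hx,
        Finset.mem_union_left _ (Finset.mem_image_of_mem (fun i => (((p x).coeff i : F₀) : F)) hi)⟩)
    · exact hev _ fun i hi => Algebra.subset_adjoin (Finset.mem_biUnion.2 ⟨x, hx,
        Finset.mem_union_right _ (Finset.mem_image_of_mem (fun i => (((q x).coeff i : F₀) : F)) hi)⟩)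
  rw [IntermediateField.mem_adjoin_iff_div, Algebra.adjoin_eq] at hz
  obtain ⟨r, ⟨a, rfl⟩, s', ⟨b, rfl⟩, rfl⟩ := hz
  exact ⟨a, b, rfl⟩

end Groth.Agent.GaGmBirLib
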