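import Groth.Agent.GaGmBirLib.Points
import Mathlib.RingTheory.Localization.Away.Basic

/-!
# The lines of the additive and of the multiplicative group
-/

set_option autoImplicit false
set_option backward.isDefEq.respectTransparency false
set_option backward.isDefEq.respectTransparency.types false
set_option linter.style.haveILetI false

universe u

open CategoryTheory MonoidalCategory CartesianMonoidalCategory MonObj GrpObj AlgebraicGeometry

noncomputable section

namespace Groth.Agent.GaGmBirLib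

open Groth.Agent.GmTorsor (mor gaVal gmVal gaVal_mor gmVal_mor gaVal_mul gmVal_mul gaVal_injective gmVal_injective exists_gaVal exists_gmVal)
open Groth.Agent.GaPoints (ringMap ringMap_injective ringMap_comp_SpecMap exists_ringMap)

variable {K : Type u} [Field K] {G X : Over (Spec (CommRingCat.of K))} [GrpObj G] [IsIntegral X.left]

theorem gaFn_comp_spec {C : Type u} [CommRing C] {f : Spec (CommRingCat.of C) ⟶ Spec (CommRingCat.of K)}
    {T : Over (Spec (CommRingCat.of K))} (q : T ⟶ Over.mk f) (g : Over.mk f ⟶ Red.Ga _) :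
    Red.gaFn (q ≫ g) = ringMap q.left (gaVal g) := by
  rw [GaPoints.gaFn_comp, gaVal]
  exact (congrArg q.left.appTop ((Scheme.ΓSpecIso (CommRingCat.of C)).hom_inv_id_apply _)).symm

theorem gmFn_comp_spec {C : Type u} [CommRing C] {f : Spec (CommRingCat.of C) ⟶ Spec (CommRingCat.of K)}
    {T : Over (Spec (CommRingCat.of K))} (q : T ⟶ Over.mk f) (g : Over.mk f ⟶ Red.Gm _) :
    Red.gmFn (q ≫ g) = ringMap q.left (gmVal g) := by
  rw [GaGmHom.gmFn_comp, gmVal]
  exact (congrArg q.left.appTop ((Scheme.ΓSpecIso (CommRingCat.of C)).hom_inv_id_apply _)).symm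

section Chart

variable (U : X.left.Opens) (hη : genericPoint X.left ∈ U)

/-- A function near the generic point, as a rational function. -/
def germFF : Γ(X.left, U) →+* FF X := (X.left.presheaf.germ U (genericPoint X.left) hη).hom

theorem germFF_injective : Function.Injective (germFF U hη) :=
  germ_injective_of_isIntegral X.left (genericPoint X.left) hη

theorem germFF_fromSpec (hU : IsAffineOpen U) :
    Spec.map (CommRingCat.ofHom (germFF U hη)) ≫ hU.fromSpec = xEta X := by
  rw [xEta, ← hU.fromSpecStalk_eq_fromSpecStalk hη]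
  rfl

/-- A chart of the line over an affine open. -/
theorem exists_chart (hU : IsAffineOpen U) (B : Type u) [CommRing B] (c : Γ(X.left, U) →+* B)
    (jB : B →+* RatFunc (FF X)) (hc : jB.comp c = RatFunc.C.comp (germFF U hη)) :
    ∃ (xB : Over.mk (Spec.map (CommRingCat.ofHom c) ≫ hU.fromSpec ≫ X.hom) ⟶ X)
      (hjB : Spec.map (CommRingCat.ofHom jB) ≫ Spec.map (CommRingCat.ofHom c) ≫ hU.fromSpec ≫ X.hom =
        Spec.map (CommRingCat.ofHom (RatFunc.C : FF X →+* RatFunc (FF X))) ≫ sEta X),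
      mor jB hjB ≫ xB = pt RatFunc.C rfl ∧
      ∀ (T : Over (Spec (CommRingCat.of K))) (x : T ⟶ X), Set.range x.left ⊆ (U : Set X.left) →
        ∃ ρ : Γ(X.left, U) →+* Γ(T.left, ⊤), ∀ β : B →+* Γ(T.left, ⊤), β.comp c = ρ →
          ∃ q : T ⟶ Over.mk (Spec.map (CommRingCat.ofHom c) ≫ hU.fromSpec ≫ X.hom),
            ringMap q.left = β ∧ q ≫ xB = x := by
  have he : Spec.map (CommRingCat.ofHom jB) ≫ Spec.map (CommRingCat.ofHom c) ≫ hU.fromSpec =
      Spec.map (CommRingCat.ofHom (RatFunc.C : FF X →+* RatFunc (FF X))) ≫ xEta X := by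
    rw [← germFF_fromSpec U hη hU, ← Category.assoc, spec_comp, hc, ← spec_comp, Category.assoc]
  refine ⟨Over.homMk (Spec.map (CommRingCat.ofHom c) ≫ hU.fromSpec) (Category.assoc _ _ _), ?_,
    Over.OverMorphism.ext he, fun T x hx => ?_⟩
  · rw [sEta, ← reassoc_of% he]
  let l := IsOpenImmersion.lift hU.fromSpec x.left (by rwa [hU.range_fromSpec])
  have hl : l ≫ hU.fromSpec = x.left := IsOpenImmersion.lift_fac _ _ _
  refine ⟨ringMap l, fun β hβ => ?_⟩
  obtain ⟨q, hq⟩ := exists_ringMap (R := CommRingCat.of B) β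
  have hql : q ≫ Spec.map (CommRingCat.ofHom c) = l := ringMap_injective (RingHom.ext fun r => by
    rw [ringMap_comp_SpecMap, hq]
    exact RingHom.congr_fun hβ r)
  refine ⟨Over.homMk q ?_, hq, Over.OverMorphism.ext ?_⟩
  · show q ≫ Spec.map (CommRingCat.ofHom c) ≫ hU.fromSpec ≫ X.hom = T.hom
    rw [reassoc_of% hql, reassoc_of% hl]
    exact Over.w x
  · show q ≫ Spec.map (CommRingCat.ofHom c) ≫ hU.fromSpec = x.left
    rw [reassoc_of% hql, hl]

end Chart

section Ga

variable (i : G ≅ Red.Ga (Spec (CommRingCat.of K))) [IsMonHom i.hom]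

/-- The point of `G ≅ 𝔾ₐ` with given coordinate. -/
def gaPt {C : Type u} [CommRing C] {f : Spec (CommRingCat.of C) ⟶ Spec (CommRingCat.of K)} (c : C) :
    Over.mk f ⟶ G := (exists_gaVal c).choose ≫ i.inv

omit [GrpObj G] [IsMonHom i.hom] in
theorem gaVal_gaPt {C : Type u} [CommRing C] {f : Spec (CommRingCat.of C) ⟶ Spec (CommRingCat.of K)} (c : C) :
    gaVal (gaPt i (f := f) c ≫ i.hom) = c := by
  rw [gaPt, Category.assoc, Iso.inv_hom_id, Category.comp_id]
  exact (exists_gaVal c).choose_spec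

omit [GrpObj G] [IsMonHom i.hom] in
theorem mor_gaPt {C C' : Type u} [CommRing C] [CommRing C'] {f : Spec (CommRingCat.of C) ⟶ Spec (CommRingCat.of K)}
    {f' : Spec (CommRingCat.of C') ⟶ Spec (CommRingCat.of K)} (ψ : C →+* C')
    (h : Spec.map (CommRingCat.ofHom ψ) ≫ f = f') (c : C) :
    mor ψ h ≫ gaPt i c = gaPt i (ψ c) := by
  rw [← cancel_mono i.hom]
  apply gaVal_injective
  rw [Category.assoc, gaVal_mor, gaVal_gaPt, gaVal_gaPt]

theorem gaPt_mul {C : Type u} [CommRing C] {f : Spec (CommRingCat.of C) ⟶ Spec (CommRingCat.of K)} (c d : C) :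
    gaPt i (f := f) c * gaPt i d = gaPt i (c + d) := by
  rw [← cancel_mono i.hom]
  apply gaVal_injective
  rw [MonObj.mul_comp, gaVal_mul, gaVal_gaPt, gaVal_gaPt, gaVal_gaPt]

theorem gaPt_zero {C : Type u} [CommRing C] {f : Spec (CommRingCat.of C) ⟶ Spec (CommRingCat.of K)} :
    gaPt i (f := f) (0 : C) = 1 := by
  rw [← cancel_mono i.hom]
  apply gaVal_injective
  rw [MonObj.one_comp, gaVal_gaPt, gaVal, GaPoints.gaFn_one, map_zero]

/-- The line of the additive group. -/
def gaLine : LinePt G X where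
  e := 0
  σ := sigmaGa
  hσ := sigmaGa_injective
  σ_C c := by simp [sigmaGa_apply]
  gO := gaPt i (algebraMap (Polynomial (FF X)) _ Polynomial.X)
  gO_res h := by rw [mor_gaPt, res_algebraMap, Polynomial.eval_X, gaPt_zero]
  gL := gaPt i RatFunc.X
  gO_incl h := by rw [mor_gaPt, incl_algebraMap, am_X]
  mul Φ f h₁ h₂ h₃ := by
    rw [mor_gaPt, mor_gaPt, mor_gaPt, gaPt_mul]
    congr 1
    rw [← am_X, chi_am, tau_am, sigmaGa_apply, Polynomial.map_X, Polynomial.map_X, Polynomial.X_comp, map_add, am_C,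
      am_X, am_X]
  fill U hU hη := by
    let jB : Polynomial Γ(X.left, U) →+* RatFunc (FF X) := am.comp (Polynomial.mapRingHom (germFF U hη))
    obtain ⟨xB, hjB, hx, hfill⟩ := exists_chart U hη hU (Polynomial Γ(X.left, U)) Polynomial.C jB (by
      ext c
      simp only [jB, RingHom.comp_apply, Polynomial.coe_mapRingHom, Polynomial.map_C, am_C])
    haveI : Nonempty U := ⟨⟨_, hη⟩⟩
    refine ⟨Polynomial Γ(X.left, U), inferInstance, inferInstance, _, gaPt i Polynomial.X, xB, jB, hjB,
      am_injective.comp (Polynomial.map_injective _ (germFF_injective U hη)), ?_, hx, fun T g x hgx => ?_⟩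
    · rw [mor_gaPt]
      congr 1
      simp [jB, am_X]
    · obtain ⟨ρ, hρ⟩ := hfill T x hgx
      obtain ⟨q, hq, hqx⟩ := hρ (Polynomial.eval₂RingHom ρ (Red.gaFn (g ≫ i.hom)))
        (RingHom.ext fun r => Polynomial.eval₂_C _ _)
      refine ⟨q, ?_, hqx⟩
      rw [← cancel_mono i.hom, Category.assoc]
      apply GaPoints.gaFn_injective
      rw [gaFn_comp_spec, gaVal_gaPt, hq]
      exact Polynomial.eval₂_X _ _

end Ga

section Gm

variable (i : G ≅ Red.Gm (Spec (CommRingCat.of K))) [IsMonHom i.hom]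

/-- The point of `G ≅ 𝔾ₘ` with given coordinate. -/
def gmPt {C : Type u} [CommRing C] {f : Spec (CommRingCat.of C) ⟶ Spec (CommRingCat.of K)} (c : C) (hc : IsUnit c) :
    Over.mk f ⟶ G := (exists_gmVal c hc).choose ≫ i.inv

omit [GrpObj G] [IsMonHom i.hom] in
theorem gmVal_gmPt {C : Type u} [CommRing C] {f : Spec (CommRingCat.of C) ⟶ Spec (CommRingCat.of K)} (c : C)
    (hc : IsUnit c) : gmVal (gmPt i (f := f) c hc ≫ i.hom) = c := by
  rw [gmPt, Category.assoc, Iso.inv_hom_id, Category.comp_id]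
  exact (exists_gmVal c hc).choose_spec

omit [GrpObj G] [IsMonHom i.hom] in
theorem eq_gmPt {C : Type u} [CommRing C] {f : Spec (CommRingCat.of C) ⟶ Spec (CommRingCat.of K)}
    {g : Over.mk f ⟶ G} {c : C} {hc : IsUnit c} (h : gmVal (g ≫ i.hom) = c) : g = gmPt i c hc := by
  rw [← cancel_mono i.hom]
  apply gmVal_injective
  rw [h, gmVal_gmPt]

omit [GrpObj G] [IsMonHom i.hom] in
theorem gmVal_mor_gmPt {C C' : Type u} [CommRing C] [CommRing C'] {f : Spec (CommRingCat.of C) ⟶ Spec (CommRingCat.of K)}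
    {f' : Spec (CommRingCat.of C') ⟶ Spec (CommRingCat.of K)} (ψ : C →+* C')
    (h : Spec.map (CommRingCat.ofHom ψ) ≫ f = f') (c : C) (hc : IsUnit c) :
    gmVal ((mor ψ h ≫ gmPt i c hc) ≫ i.hom) = ψ c := by
  rw [Category.assoc, gmVal_mor, gmVal_gmPt]

theorem isUnit_X_Oe (e : FF X) (he : e ≠ 0) :
    IsUnit (algebraMap (Polynomial (FF X)) (Oe e) Polynomial.X) :=
  IsLocalization.map_units (M := (RingHom.ker (Polynomial.evalRingHom e)).primeCompl) (Oe e)
    ⟨Polynomial.X, fun h => he (by simpa using (RingHom.mem_ker.1 h))⟩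

/-- The line of the multiplicative group. -/
def gmLine : LinePt G X where
  e := 1
  σ := sigmaGm
  hσ := sigmaGm_injective
  σ_C c := by simp [sigmaGm_apply]
  gO := gmPt i _ (isUnit_X_Oe 1 one_ne_zero)
  gO_res h := by
    rw [← cancel_mono i.hom]
    apply gmVal_injective
    have h1 := gmVal_mul ((1 : Over.mk (sEta X) ⟶ G) ≫ i.hom) (1 ≫ i.hom)
    rw [← MonObj.mul_comp, show (1 : Over.mk (sEta X) ⟶ G) * 1 = 1 from _root_.one_mul (1 : Over.mk (sEta X) ⟶ G)] at h1
    have h2 : gmVal ((1 : Over.mk (sEta X) ⟶ G) ≫ i.hom) = 1 := by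
      refine (mul_eq_left₀ (GmTorsor.isUnit_gmVal _).ne_zero).1 h1.symm
    rw [gmVal_mor_gmPt, res_algebraMap, Polynomial.eval_X, h2]
  gL := gmPt i RatFunc.X RatFunc.X_ne_zero.isUnit
  gO_incl h := eq_gmPt i (by rw [gmVal_mor_gmPt, incl_algebraMap, am_X])
  mul Φ f h₁ h₂ h₃ := by
    rw [← cancel_mono i.hom]
    apply gmVal_injective
    rw [MonObj.mul_comp, gmVal_mul, gmVal_mor_gmPt, gmVal_mor_gmPt, gmVal_mor_gmPt,
      ← am_X, chi_am, tau_am, sigmaGm_apply, Polynomial.map_X, Polynomial.map_X, Polynomial.X_comp, map_mul,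
      am_C, am_X, am_X, mul_comm]
  fill U hU hη := by
    haveI : Nonempty U := ⟨⟨_, hη⟩⟩
    let B := Localization.Away (Polynomial.X : Polynomial Γ(X.left, U))
    let j₀ : Polynomial Γ(X.left, U) →+* RatFunc (FF X) := am.comp (Polynomial.mapRingHom (germFF U hη))
    have hj₀X : j₀ Polynomial.X = RatFunc.X := by simp [j₀, am_X]
    have hj₀ : Function.Injective j₀ := am_injective.comp (Polynomial.map_injective _ (germFF_injective U hη))
    let jB : B →+* RatFunc (FF X) :=
      IsLocalization.Away.lift (Polynomial.X : Polynomial Γ(X.left, U)) (g := j₀)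
        (by rw [hj₀X]; exact RatFunc.X_ne_zero.isUnit)
    have hjB : ∀ p, jB (algebraMap _ B p) = j₀ p := fun p => IsLocalization.Away.lift_eq _ _ p
    have hle : Submonoid.powers (Polynomial.X : Polynomial Γ(X.left, U)) ≤ nonZeroDivisors _ :=
      powers_le_nonZeroDivisors_of_noZeroDivisors Polynomial.X_ne_zero
    haveI : IsDomain B := IsLocalization.isDomain_localization hle
    have hinj : Function.Injective jB := by
      refine (IsLocalization.lift_injective_iff _).2 fun a b => ⟨fun h => ?_, fun h => ?_⟩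
      · exact congrArg j₀ (IsLocalization.injective B hle h)
      · exact congrArg _ (hj₀ h)
    obtain ⟨xB, hjBs, hx, hfill⟩ := exists_chart U hη hU B ((algebraMap _ B).comp Polynomial.C) jB (by
      ext c
      rw [RingHom.comp_apply, RingHom.comp_apply, hjB]
      simp [j₀, am_C])
    refine ⟨B, inferInstance, inferInstance, _, gmPt i (algebraMap _ B Polynomial.X)
      (IsLocalization.Away.algebraMap_isUnit _), xB, jB, hjBs, hinj,
      eq_gmPt i (by rw [gmVal_mor_gmPt, hjB, hj₀X]), hx, fun T g x hgx => ?_⟩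
    obtain ⟨ρ, hρ⟩ := hfill T x hgx
    have hu : IsUnit (Polynomial.eval₂RingHom ρ (Red.gmFn (g ≫ i.hom)) Polynomial.X) := by
      rw [Polynomial.coe_eval₂RingHom, Polynomial.eval₂_X]
      exact GaGmHom.isUnit_gmFn _
    obtain ⟨q, hq, hqx⟩ := hρ (IsLocalization.Away.lift (Polynomial.X : Polynomial Γ(X.left, U)) hu) (by
      ext r
      rw [RingHom.comp_apply, RingHom.comp_apply, IsLocalization.Away.lift_eq]
      exact Polynomial.eval₂_C _ _)
    refine ⟨q, ?_, hqx⟩
    rw [← cancel_mono i.hom, Category.assoc]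
    apply GaGmHom.gmFn_injective
    rw [gmFn_comp_spec, gmVal_gmPt, hq, IsLocalization.Away.lift_eq]
    exact Polynomial.eval₂_X _ _

end Gm

end Groth.Agent.GaGmBirLib
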