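import Groth.Agent.GaGmBirLib.AlgGa
import Groth.Agent.GaGmBirLib.AlgGm
import Groth.Agent.GaGmBirLib.Gen
import Groth.Agent.GaGmBirLib.Lines
import Groth.Agent.AVLib.SepDeg
import Groth.Agent.BirProdLib.Basic

/-!
# A variety with a non-trivial action of the additive or multiplicative group is birationally a product with a line
-/

set_option autoImplicit false
set_option backward.isDefEq.respectTransparency false
set_option backward.isDefEq.respectTransparency.types false
set_option linter.style.haveILetI false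

universe u

open CategoryTheory MonoidalCategory CartesianMonoidalCategory MonObj GrpObj AlgebraicGeometry

noncomputable section

namespace Groth.Agent.GaGmBirLib

attribute [local instance] Curv2.stalkAlgebra

variable {K : Type u} [Field K] {X : Over (Spec (CommRingCat.of K))} [IsIntegral X.left]

/-- The function field is finitely generated. -/
theorem essFiniteType_FF [LocallyOfFiniteType X.hom] :
    letI := (kF X).toAlgebra
    Algebra.EssFiniteType K (FF X) := by
  letI : X.left.Over (Spec (CommRingCat.of K)) := ⟨X.hom⟩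
  haveI : LocallyOfFiniteType (X.left ↘ Spec (CommRingCat.of K)) := ‹LocallyOfFiniteType X.hom›
  have h := AVLib.essFiniteType_functionField K X.left
  suffices hk : kF X = algebraMap K X.left.functionField by
    letI := (kF X).toAlgebra
    show Algebra.EssFiniteType K (FF X)
    convert h using 1
    exact Algebra.algebra_ext _ _ fun r => RingHom.congr_fun hk r
  refine spec_inj ?_
  rw [Spec_kF, sEta, xEta]
  exact (AVLib.spec_stalkMap K X.left _).symm

theorem locallyOfFinitePresentation_of_field {Z : Scheme.{u}} (f : Z ⟶ Spec (CommRingCat.of K)) [LocallyOfFiniteType f] :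
    LocallyOfFinitePresentation f := by
  rw [HasRingHomProperty.iff_appLE (P := @LocallyOfFinitePresentation)]
  intro W E e
  haveI : IsNoetherianRing ↥Γ(Spec (CommRingCat.of K), W) := IsLocallyNoetherian.component_noetherian W
  exact RingHom.FinitePresentation.of_finiteType.1
    (HasRingHomProperty.appLE (P := @LocallyOfFiniteType) f ‹_› W E e)

/-- A variety whose function field is that of a line over a variety is birational to that product. -/
theorem exists_iso_of_model [LocallyOfFiniteType X.hom] (A : Type u) [CommRing A] [IsDomain A] [Algebra K A]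
    [Algebra.FiniteType K A] (φ : MvPolynomial (ULift.{u} (Fin 1)) A →+* FF X) (hφ : Function.Injective φ)
    (hK : ∀ k, φ (MvPolynomial.C (algebraMap K A k)) = kF X k) (hfrac : ∀ z : FF X, ∃ p q, z = φ p / φ q) :
    ∃ (Y : Over (Spec (CommRingCat.of K))) (_ : IsIntegral Y.left) (_ : LocallyOfFiniteType Y.hom)
      (U : X.left.Opens) (V : (𝔸(ULift.{u} (Fin 1); Y.left)).Opens), (U : Set X.left).Nonempty ∧
      Nonempty (Over.mk (U.ι ≫ X.hom) ≅
        Over.mk (V.ι ≫ (𝔸(ULift.{u} (Fin 1); Y.left) ↘ Y.left) ≫ Y.hom)) := by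
  let Y : Over (Spec (CommRingCat.of K)) := Over.mk (Spec.map (CommRingCat.ofHom (algebraMap K A)))
  haveI hY : IsIntegral Y.left := inferInstanceAs (IsIntegral (Spec (CommRingCat.of A)))
  haveI hY' : LocallyOfFiniteType Y.hom :=
    (HasRingHomProperty.Spec_iff (P := @LocallyOfFiniteType)).mpr (RingHom.finiteType_algebraMap.2 ‹_›)
  let P := MvPolynomial (ULift.{u} (Fin 1)) A
  let A1 := 𝔸(ULift.{u} (Fin 1); Spec (CommRingCat.of A))
  let J := AffineSpace.SpecIso (ULift.{u} (Fin 1)) (CommRingCat.of A)
  haveI : IsIntegral (Spec (CommRingCat.of P)) := inferInstance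
  haveI : Nonempty A1 := ⟨J.inv (genericPoint (Spec (CommRingCat.of P)))⟩
  haveI hA1 : IsIntegral A1 := isIntegral_of_isOpenImmersion J.hom
  let sA : A1 ⟶ Spec (CommRingCat.of K) :=
    (𝔸(ULift.{u} (Fin 1); Spec (CommRingCat.of A)) ↘ Spec (CommRingCat.of A)) ≫
      Spec.map (CommRingCat.ofHom (algebraMap K A))
  haveI : LocallyOfFiniteType sA := by
    haveI : LocallyOfFiniteType (Spec.map (CommRingCat.ofHom (algebraMap K A))) := hY'
    exact MorphismProperty.comp_mem @LocallyOfFiniteType _ _ inferInstance inferInstance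
  haveI := locallyOfFinitePresentation_of_field X.hom
  haveI := locallyOfFinitePresentation_of_field sA
  let b : Spec (CommRingCat.of (FF X)) ⟶ A1 := Spec.map (CommRingCat.ofHom φ) ≫ J.inv
  letI := φ.toAlgebra
  haveI : FaithfulSMul P (FF X) := (faithfulSMul_iff_algebraMap_injective _ _).2 hφ
  haveI : IsFractionRing P (FF X) := IsFractionRing.of_field P (FF X) hfrac
  haveI : IsPreimmersion (Spec.map (CommRingCat.ofHom φ)) :=
    IsPreimmersion.of_isLocalization (R := P) (S := FF X) (nonZeroDivisors P)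
  haveI : Flat (Spec.map (CommRingCat.ofHom φ)) :=
    (HasRingHomProperty.Spec_iff (P := @Flat)).mpr
      (RingHom.flat_algebraMap_iff.2 (IsLocalization.flat (FF X) (nonZeroDivisors P)))
  haveI : IsPreimmersion b := inferInstance
  haveI : Flat b := inferInstance
  haveI : Flat (xEta X) := IntImage.flat_fromSpecStalk _
  haveI : IsDominant (Spec.map (CommRingCat.ofHom φ)) :=
    ⟨(PrimeSpectrum.denseRange_comap_iff_ker_le_nilRadical φ).2
      (by rw [(RingHom.injective_iff_ker_eq_bot φ).1 hφ]; exact bot_le)⟩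
  haveI : IsDominant b := inferInstance
  let p : Spec (CommRingCat.of (FF X)) := IsLocalRing.closedPoint (FF X)
  have hgen : b p = genericPoint A1 := by
    refine IsGenericPoint.eq ?_ (genericPoint_spec A1)
    rw [isGenericPoint_def]
    refine (Set.eq_univ_of_univ_subset ?_)
    rw [← b.denseRange.closure_range]
    refine closure_mono ?_
    rintro _ ⟨q, rfl⟩
    rw [show q = p from Subsingleton.elim (α := PrimeSpectrum (FF X)) _ _]
    rfl
  have hw : xEta X ≫ X.hom = b ≫ sA := by
    show sEta X = _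
    rw [← Spec_kF, Category.assoc]
    show _ = Spec.map (CommRingCat.ofHom φ) ≫ J.inv ≫ _ ≫ _
    rw [AffineSpace.SpecIso_inv_over_assoc, ← Spec.map_comp, ← Spec.map_comp]
    congr 1
    ext k
    exact (hK k).symm
  obtain ⟨f, hf⟩ := BirProdLib.birationalOver_of_span X.hom sA (xEta X) b hw p
    Scheme.fromSpecStalk_closedPoint hgen
  exact ⟨Y, hY, hY', f.source, f.target, f.dense_source.nonempty, ⟨Over.isoMk f.iso hf⟩⟩

/-- The birational product structure from a line in the group. -/
theorem exists_iso_of_structure [LocallyOfFiniteType X.hom] {Φ : FF X →+* RatFunc (FF X)}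
    (hK : ∀ k, Φ (kF X k) = RatFunc.C (kF X k))
    (h : letI := (kF X).toAlgebra
      ∃ u : FF X, Transcendental (inv₀ (K := K) Φ hK) u ∧
      IntermediateField.adjoin K ((inv₀ (K := K) Φ hK : Set (FF X)) ∪ {u}) = ⊤) :
    ∃ (Y : Over (Spec (CommRingCat.of K))) (_ : IsIntegral Y.left) (_ : LocallyOfFiniteType Y.hom)
      (U : X.left.Opens) (V : (𝔸(ULift.{u} (Fin 1); Y.left)).Opens), (U : Set X.left).Nonempty ∧
      Nonempty (Over.mk (U.ι ≫ X.hom) ≅
        Over.mk (V.ι ≫ (𝔸(ULift.{u} (Fin 1); Y.left) ↘ Y.left) ≫ Y.hom)) := by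
  letI := (kF X).toAlgebra
  haveI := essFiniteType_FF (X := X)
  obtain ⟨u, hu, htop⟩ := h
  obtain ⟨A, _, _, _, _, φ, hφ, hφK, hfrac⟩ := exists_model (inv₀ (K := K) Φ hK) u hu htop
  exact exists_iso_of_model A φ hφ hφK hfrac

/-- An action of a group isomorphic to the additive group. -/
theorem exists_iso_ga {G : Over (Spec (CommRingCat.of K))} [GrpObj G] (i : G ≅ Red.Ga (Spec (CommRingCat.of K)))
    [IsMonHom i.hom] [LocallyOfFiniteType X.hom] [IsSeparated X.hom] (a : AlgGrp.Action G X)
    (ha : a.act ≠ snd G X) :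
    ∃ (Y : Over (Spec (CommRingCat.of K))) (_ : IsIntegral Y.left) (_ : LocallyOfFiniteType Y.hom)
      (U : X.left.Opens) (V : (𝔸(ULift.{u} (Fin 1); Y.left)).Opens), (U : Set X.left).Nonempty ∧
      Nonempty (Over.mk (U.ι ≫ X.hom) ≅
        Over.mk (V.ι ≫ (𝔸(ULift.{u} (Fin 1); Y.left) ↘ Y.left) ≫ Y.hom)) := by
  obtain ⟨Φ, hΦ, hK, hne⟩ := exists_coact a (gaLine i) ha
  letI := (kF X).toAlgebra
  exact exists_iso_of_structure hK (ga_structure hΦ hK hne)

/-- An action of a group isomorphic to the multiplicative group. -/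
theorem exists_iso_gm {G : Over (Spec (CommRingCat.of K))} [GrpObj G] (i : G ≅ Red.Gm (Spec (CommRingCat.of K)))
    [IsMonHom i.hom] [LocallyOfFiniteType X.hom] [IsSeparated X.hom] (a : AlgGrp.Action G X)
    (ha : a.act ≠ snd G X) :
    ∃ (Y : Over (Spec (CommRingCat.of K))) (_ : IsIntegral Y.left) (_ : LocallyOfFiniteType Y.hom)
      (U : X.left.Opens) (V : (𝔸(ULift.{u} (Fin 1); Y.left)).Opens), (U : Set X.left).Nonempty ∧
      Nonempty (Over.mk (U.ι ≫ X.hom) ≅
        Over.mk (V.ι ≫ (𝔸(ULift.{u} (Fin 1); Y.left) ↘ Y.left) ≫ Y.hom)) := by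
  obtain ⟨Φ, hΦ, hK, hne⟩ := exists_coact a (gmLine i) ha
  letI := (kF X).toAlgebra
  exact exists_iso_of_structure hK (gm_structure hΦ hK hne)

end Groth.Agent.GaGmBirLib
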