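import Groth.Agent.GaGmBirLib.Alg
import Groth.Agent.GmTorsor.Main
import Mathlib.AlgebraicGeometry.FunctionField
import Mathlib.AlgebraicGeometry.Morphisms.Separated

/-!
# The co-action on the function field of an integral scheme with a group action
-/

set_option autoImplicit false
set_option backward.isDefEq.respectTransparency false
set_option backward.isDefEq.respectTransparency.types false
set_option linter.style.haveILetI false

universe u

open CategoryTheory MonoidalCategory CartesianMonoidalCategory MonObj GrpObj AlgebraicGeometry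

noncomputable section

namespace Groth.Agent.GaGmBirLib

open Groth.Agent.GmTorsor (mor act_one act_mul comp_act)

variable {K : Type u} [Field K] {G X : Over (Spec (CommRingCat.of K))} [IsIntegral X.left]

/-- The function field. -/
abbrev FF (X : Over (Spec (CommRingCat.of K))) [IsIntegral X.left] : Type u := X.left.functionField

/-- The generic point, as a point with values in the function field. -/
def xEta (X : Over (Spec (CommRingCat.of K))) [IsIntegral X.left] : Spec (CommRingCat.of (FF X)) ⟶ X.left :=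
  X.left.fromSpecStalk (genericPoint X.left)

instance : IsPreimmersion (xEta X) :=
  inferInstanceAs (IsPreimmersion (X.left.fromSpecStalk (genericPoint X.left)))

/-- The structure map of the generic point. -/
def sEta (X : Over (Spec (CommRingCat.of K))) [IsIntegral X.left] :
    Spec (CommRingCat.of (FF X)) ⟶ Spec (CommRingCat.of K) := xEta X ≫ X.hom

/-- The constants in the function field. -/
def kF (X : Over (Spec (CommRingCat.of K))) [IsIntegral X.left] : K →+* FF X := (Spec.preimage (sEta X)).hom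

theorem Spec_kF : Spec.map (CommRingCat.ofHom (kF X)) = sEta X := Spec.map_preimage _

theorem spec_comp {A B C : Type u} [CommRing A] [CommRing B] [CommRing C] (f : A →+* B) (g : B →+* C) :
    Spec.map (CommRingCat.ofHom g) ≫ Spec.map (CommRingCat.ofHom f) = Spec.map (CommRingCat.ofHom (g.comp f)) := by
  rw [← Spec.map_comp]; rfl

theorem spec_inj {A B : Type u} [CommRing A] [CommRing B] {f g : A →+* B}
    (h : Spec.map (CommRingCat.ofHom f) = Spec.map (CommRingCat.ofHom g)) : f = g :=
  congrArg CommRingCat.Hom.hom (Spec.map_injective h)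

theorem struct_iff {C : Type u} [CommRing C] {j j' : FF X →+* C} :
    Spec.map (CommRingCat.ofHom j) ≫ sEta X = Spec.map (CommRingCat.ofHom j') ≫ sEta X ↔
      j.comp (kF X) = j'.comp (kF X) := by
  rw [← Spec_kF, spec_comp, spec_comp]
  exact ⟨spec_inj, fun h => by rw [h]⟩

/-- A point over the generic point. -/
def pt {C : Type u} [CommRing C] {f : Spec (CommRingCat.of C) ⟶ Spec (CommRingCat.of K)} (j : FF X →+* C)
    (h : Spec.map (CommRingCat.ofHom j) ≫ sEta X = f) : Over.mk f ⟶ X :=
  Over.homMk (Spec.map (CommRingCat.ofHom j) ≫ xEta X) (by rw [Category.assoc]; exact h)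

theorem mor_pt {C C' : Type u} [CommRing C] [CommRing C'] {f : Spec (CommRingCat.of C) ⟶ Spec (CommRingCat.of K)}
    {f' : Spec (CommRingCat.of C') ⟶ Spec (CommRingCat.of K)} (ψ : C →+* C')
    (hψ : Spec.map (CommRingCat.ofHom ψ) ≫ f = f') (j : FF X →+* C)
    (h : Spec.map (CommRingCat.ofHom j) ≫ sEta X = f) :
    mor ψ hψ ≫ pt j h = pt (ψ.comp j) (by rw [← spec_comp, Category.assoc, h, hψ]) := by
  refine Over.OverMorphism.ext ?_
  show Spec.map (CommRingCat.ofHom ψ) ≫ Spec.map (CommRingCat.ofHom j) ≫ xEta X = _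
  exact ((Category.assoc _ _ _).symm).trans (congrArg (· ≫ xEta X) (spec_comp j ψ))

theorem pt_inj {C : Type u} [CommRing C] {f : Spec (CommRingCat.of C) ⟶ Spec (CommRingCat.of K)}
    {j j' : FF X →+* C} {h : Spec.map (CommRingCat.ofHom j) ≫ sEta X = f}
    {h' : Spec.map (CommRingCat.ofHom j') ≫ sEta X = f} (e : pt j h = pt j' h') : j = j' :=
  spec_inj ((cancel_mono (xEta X)).1 (congrArg CommaMorphism.left e))

/-- A morphism from a local scheme sending the closed point to the generic point. -/
theorem exists_factor {O : Type u} [CommRing O] [IsLocalRing O] (θ : Spec (CommRingCat.of O) ⟶ X.left)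
    (h : θ (IsLocalRing.closedPoint O) = genericPoint X.left) :
    ∃ ψ : FF X →+* O, Spec.map (CommRingCat.ofHom ψ) ≫ xEta X = θ := by
  have key : ∀ x, θ (IsLocalRing.closedPoint O) = x →
      ∃ ψ : X.left.presheaf.stalk x ⟶ CommRingCat.of O, Spec.map ψ ≫ X.left.fromSpecStalk x = θ := by
    rintro x rfl
    exact ⟨Scheme.stalkClosedPointTo θ, Scheme.Spec_stalkClosedPointTo_fromSpecStalk θ⟩
  obtain ⟨ψ, hψ⟩ := key _ h
  exact ⟨ψ.hom, hψ⟩

section Rings

variable {F : Type u} [Field F] (e : F)

instance isPrime_evalKer : (RingHom.ker (Polynomial.evalRingHom e)).IsPrime := RingHom.ker_isPrime _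

/-- Rational functions defined at `e`. -/
abbrev Oe : Type u := Localization.AtPrime (RingHom.ker (Polynomial.evalRingHom e))

/-- The inclusion in the rational functions. -/
def incl : Oe e →+* RatFunc F :=
  IsLocalization.lift (M := (RingHom.ker (Polynomial.evalRingHom e)).primeCompl) (g := am (F := F))
    fun q => IsUnit.mk0 _ ((map_ne_zero_iff _ am_injective).2 fun h => q.2 (by
      show (q : Polynomial F) ∈ RingHom.ker (Polynomial.evalRingHom e)
      rw [h]; exact zero_mem _))

/-- The value at `e`. -/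
def res : Oe e →+* F :=
  IsLocalization.lift (M := (RingHom.ker (Polynomial.evalRingHom e)).primeCompl)
    (g := Polynomial.evalRingHom e) fun q => IsUnit.mk0 _ q.2

/-- The constants. -/
def cO : F →+* Oe e := (algebraMap (Polynomial F) (Oe e)).comp Polynomial.C

theorem incl_algebraMap (p : Polynomial F) : incl e (algebraMap _ _ p) = am p := IsLocalization.lift_eq _ _

theorem res_algebraMap (p : Polynomial F) : res e (algebraMap _ _ p) = p.eval e := IsLocalization.lift_eq _ _

theorem incl_cO : (incl e).comp (cO e) = (RatFunc.C : F →+* RatFunc F) :=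
  RingHom.ext fun c => (incl_algebraMap e _).trans (am_C c)

theorem res_cO : (res e).comp (cO e) = RingHom.id F :=
  RingHom.ext fun c => (res_algebraMap e _).trans Polynomial.eval_C

theorem isLocalHom_res : IsLocalHom (res e) :=
  IsLocalHom.of_surjective _ fun c => ⟨cO e c, RingHom.congr_fun (res_cO e) c⟩

/-- The map on rational functions induced by `Φ` on coefficients. -/
def chi (Φ : F →+* RatFunc F) : RatFunc F →+* RatFunc (RatFunc F) :=
  IsFractionRing.lift (A := Polynomial F)
    (g := (am (F := RatFunc F)).comp (Polynomial.mapRingHom Φ))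
    (am_injective.comp (Polynomial.map_injective _ Φ.injective))

theorem chi_am (Φ : F →+* RatFunc F) (p : Polynomial F) : chi Φ (am p) = am (p.map Φ) :=
  IsFractionRing.lift_algebraMap _ _

theorem chi_C (Φ : F →+* RatFunc F) : (chi Φ).comp RatFunc.C = (RatFunc.C : RatFunc F →+* _).comp Φ := by
  ext c
  rw [RingHom.comp_apply, RingHom.comp_apply, ← am_C, chi_am, Polynomial.map_C, am_C]

/-- The substitution `σ` on rational functions. -/
def tau (σ : Polynomial F →+* Polynomial (RatFunc F)) (hσ : Function.Injective σ) :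
    RatFunc F →+* RatFunc (RatFunc F) :=
  IsFractionRing.lift (A := Polynomial F) (g := (am (F := RatFunc F)).comp σ) (am_injective.comp hσ)

theorem tau_am (σ : Polynomial F →+* Polynomial (RatFunc F)) (hσ : Function.Injective σ) (p : Polynomial F) :
    tau σ hσ (am p) = am (σ p) :=
  IsFractionRing.lift_algebraMap _ _

theorem assoc_of_eq (σ : Polynomial F →+* Polynomial (RatFunc F)) (hσ : Function.Injective σ)
    (Φ : F →+* RatFunc F) (h : (chi Φ).comp Φ = (tau σ hσ).comp Φ) (f : F) :
    (Φ f).num.map Φ * σ (Φ f).denom = σ (Φ f).num * (Φ f).denom.map Φ := by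
  have := RingHom.congr_fun h f
  rw [RingHom.comp_apply, RingHom.comp_apply, ← RatFunc.num_div_denom (Φ f), map_div₀, map_div₀,
    chi_am, chi_am, tau_am, tau_am, div_eq_div_iff
      ((map_ne_zero_iff _ am_injective).2 (Polynomial.map_ne_zero (RatFunc.denom_ne_zero _)))
      ((map_ne_zero_iff _ am_injective).2 ((map_ne_zero_iff _ hσ).2 (RatFunc.denom_ne_zero _)))] at this
  exact am_injective (by simpa only [map_mul] using this)

end Rings

/-- What the proof needs to know about a point of `G` over the generic line. -/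
structure LinePt (G X : Over (Spec (CommRingCat.of K))) [GrpObj G] [IsIntegral X.left] where
  /-- the neutral value of the parameter -/
  e : FF X
  /-- the group law on the parameter -/
  σ : Polynomial (FF X) →+* Polynomial (RatFunc (FF X))
  hσ : Function.Injective σ
  σ_C : ∀ c, σ (Polynomial.C c) = Polynomial.C (RatFunc.C c)
  /-- the point over the local ring at the neutral value -/
  gO : Over.mk (Spec.map (CommRingCat.ofHom (cO e)) ≫ sEta X) ⟶ G
  gO_res : ∀ h : Spec.map (CommRingCat.ofHom (res e)) ≫ Spec.map (CommRingCat.ofHom (cO e)) ≫ sEta X = sEta X,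
    mor (res e) h ≫ gO = 1
  /-- the point over the rational functions -/
  gL : Over.mk (Spec.map (CommRingCat.ofHom (RatFunc.C : FF X →+* RatFunc (FF X))) ≫ sEta X) ⟶ G
  gO_incl : ∀ h, mor (incl e) h ≫ gO = gL
  mul : ∀ (Φ : FF X →+* RatFunc (FF X)) (f : Spec (CommRingCat.of (RatFunc (RatFunc (FF X)))) ⟶ _) h₁ h₂ h₃,
    (mor (f' := f) (chi Φ) h₁ ≫ gL) * (mor (RatFunc.C : RatFunc (FF X) →+* _) h₂ ≫ gL) =
      mor (tau σ hσ) h₃ ≫ gL
  fill : ∀ (U : X.left.Opens), IsAffineOpen U → genericPoint X.left ∈ U →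
    ∃ (B : Type u) (_ : CommRing B) (_ : IsDomain B) (fB : Spec (CommRingCat.of B) ⟶ Spec (CommRingCat.of K))
      (gB : Over.mk fB ⟶ G) (xB : Over.mk fB ⟶ X) (jB : B →+* RatFunc (FF X))
      (hjB : Spec.map (CommRingCat.ofHom jB) ≫ fB =
        Spec.map (CommRingCat.ofHom (RatFunc.C : FF X →+* RatFunc (FF X))) ≫ sEta X),
      Function.Injective jB ∧ mor jB hjB ≫ gB = gL ∧ mor jB hjB ≫ xB = pt RatFunc.C rfl ∧
        ∀ (T : Over (Spec (CommRingCat.of K))) (g : T ⟶ G) (x : T ⟶ X), Set.range x.left ⊆ (U : Set X.left) →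
          ∃ β : T ⟶ Over.mk fB, β ≫ gB = g ∧ β ≫ xB = x

variable [GrpObj G]

/-- A non-trivial action gives a non-trivial co-action on the function field. -/
theorem exists_coact (a : AlgGrp.Action G X) [IsSeparated X.hom] (D : LinePt G X) (ha : a.act ≠ snd G X) :
    ∃ Φ : FF X →+* RatFunc (FF X), Coact D.e D.σ Φ ∧ (∀ k, Φ (kF X k) = RatFunc.C (kF X k)) ∧
      Φ ≠ RatFunc.C := by
  haveI := isLocalHom_res D.e
  let θ := lift D.gO (pt (cO D.e) rfl) ≫ a.act
  have hres : Spec.map (CommRingCat.ofHom (res D.e)) ≫ Spec.map (CommRingCat.ofHom (cO D.e)) ≫ sEta X = sEta X := by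
    rw [← Category.assoc, spec_comp, res_cO]
    exact (congrArg (· ≫ sEta X) (Spec.map_id _)).trans (Category.id_comp _)
  have hθres : Spec.map (CommRingCat.ofHom (res D.e)) ≫ θ.left = xEta X := by
    have e1 : mor (res D.e) hres ≫ θ = pt ((res D.e).comp (cO D.e)) (by rw [← spec_comp, Category.assoc, hres]) := by
      rw [comp_act, D.gO_res, mor_pt, act_one]
    refine (congrArg CommaMorphism.left e1).trans ?_
    show Spec.map (CommRingCat.ofHom ((res D.e).comp (cO D.e))) ≫ xEta X = xEta X
    rw [res_cO]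
    exact (congrArg (· ≫ xEta X) (Spec.map_id _)).trans (Category.id_comp _)
  obtain ⟨ψ, hψ⟩ := exists_factor θ.left (by
    rw [← IsLocalRing.comap_closedPoint (res D.e)]
    show θ.left (Spec.map (CommRingCat.ofHom (res D.e)) (IsLocalRing.closedPoint (FF X))) = _
    exact (congrArg (fun q : Spec (CommRingCat.of (FF X)) ⟶ X.left => q (IsLocalRing.closedPoint (FF X))) hθres).trans
      Scheme.fromSpecStalk_closedPoint)
  have hψs : Spec.map (CommRingCat.ofHom ψ) ≫ sEta X = Spec.map (CommRingCat.ofHom (cO D.e)) ≫ sEta X := by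
    rw [sEta, ← Category.assoc, hψ]
    exact Over.w θ
  have hθ : θ = pt ψ hψs := Over.OverMorphism.ext hψ.symm
  have hψid : (res D.e).comp ψ = RingHom.id _ := by
    refine spec_inj ((cancel_mono (xEta X)).1 ?_)
    rw [← spec_comp, Category.assoc, hψ, hθres]
    exact ((congrArg (· ≫ xEta X) (Spec.map_id _)).trans (Category.id_comp _)).symm
  let Φ : FF X →+* RatFunc (FF X) := (incl D.e).comp ψ
  have hK : Φ.comp (kF X) = (RatFunc.C : FF X →+* RatFunc (FF X)).comp (kF X) := by
    rw [RingHom.comp_assoc, struct_iff.1 hψs, ← RingHom.comp_assoc, incl_cO]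
  have hΦs : Spec.map (CommRingCat.ofHom Φ) ≫ sEta X =
      Spec.map (CommRingCat.ofHom (RatFunc.C : FF X →+* RatFunc (FF X))) ≫ sEta X := struct_iff.2 hK
  have hinc : Spec.map (CommRingCat.ofHom (incl D.e)) ≫ Spec.map (CommRingCat.ofHom (cO D.e)) ≫ sEta X =
      Spec.map (CommRingCat.ofHom (RatFunc.C : FF X →+* RatFunc (FF X))) ≫ sEta X := by
    rw [← Category.assoc, spec_comp, incl_cO]
  -- the line through the generic point
  have hline : lift D.gL (pt RatFunc.C rfl) ≫ a.act = pt Φ hΦs := by
    have e1 : mor (incl D.e) hinc ≫ θ = pt Φ hΦs := by rw [hθ, mor_pt]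
    rw [← e1, comp_act, D.gO_incl, mor_pt]
    congr 2
    exact Over.OverMorphism.ext (by
      show _ = Spec.map (CommRingCat.ofHom ((incl D.e).comp (cO D.e))) ≫ xEta X
      rw [incl_cO]; rfl)
  refine ⟨Φ, ⟨fun f => ?_, assoc_of_eq D.σ D.hσ Φ ?_⟩, fun k => RingHom.congr_fun hK k, fun hΦ => ha ?_⟩
  · obtain ⟨⟨P, Q⟩, hPQ⟩ := IsLocalization.surj
      (RingHom.ker (Polynomial.evalRingHom D.e)).primeCompl (ψ f)
    refine ⟨P, Q, Q.2, ?_, ?_⟩
    · have := congrArg (incl D.e) hPQ
      rwa [map_mul, incl_algebraMap, incl_algebraMap] at this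
    · have := congrArg (res D.e) hPQ
      rw [map_mul, res_algebraMap, res_algebraMap, show res D.e (ψ f) = f from RingHom.congr_fun hψid f] at this
      exact this.symm
  · -- associativity
    let CC : FF X →+* RatFunc (RatFunc (FF X)) := (RatFunc.C : RatFunc (FF X) →+* _).comp RatFunc.C
    let fM := Spec.map (CommRingCat.ofHom CC) ≫ sEta X
    have h₂ : Spec.map (CommRingCat.ofHom (RatFunc.C : RatFunc (FF X) →+* RatFunc (RatFunc (FF X)))) ≫
        Spec.map (CommRingCat.ofHom RatFunc.C) ≫ sEta X = fM := by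
      rw [← Category.assoc, spec_comp]
    have h₁ : Spec.map (CommRingCat.ofHom (chi Φ)) ≫ Spec.map (CommRingCat.ofHom RatFunc.C) ≫ sEta X = fM := by
      rw [← Category.assoc, spec_comp, chi_C, ← spec_comp, Category.assoc, hΦs, ← Category.assoc, spec_comp]
    have htC : (tau D.σ D.hσ).comp RatFunc.C = CC := by
      ext c
      rw [RingHom.comp_apply, ← am_C, tau_am, D.σ_C, am_C]
      rfl
    have h₃ : Spec.map (CommRingCat.ofHom (tau D.σ D.hσ)) ≫ Spec.map (CommRingCat.ofHom RatFunc.C) ≫ sEta X = fM := by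
      rw [← Category.assoc, spec_comp, htC]
    have eC : mor (f' := fM) (RatFunc.C : RatFunc (FF X) →+* _) h₂ ≫ pt RatFunc.C rfl =
        mor (tau D.σ D.hσ) h₃ ≫ pt RatFunc.C rfl := by
      refine Over.OverMorphism.ext ?_
      show Spec.map _ ≫ Spec.map _ ≫ xEta X = Spec.map _ ≫ Spec.map _ ≫ xEta X
      rw [← Category.assoc, spec_comp, ← Category.assoc, spec_comp, htC]
    have eS : mor (f' := fM) (RatFunc.C : RatFunc (FF X) →+* _) h₂ ≫ pt Φ hΦs =
        mor (chi Φ) h₁ ≫ pt RatFunc.C rfl := by
      refine Over.OverMorphism.ext ?_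
      show Spec.map _ ≫ Spec.map _ ≫ xEta X = Spec.map _ ≫ Spec.map _ ≫ xEta X
      rw [← Category.assoc, spec_comp, ← Category.assoc, spec_comp, chi_C]
    have key := act_mul a (mor (chi Φ) h₁ ≫ D.gL) (mor (f' := fM) (RatFunc.C : RatFunc (FF X) →+* _) h₂ ≫ D.gL)
      (mor (f' := fM) (RatFunc.C : RatFunc (FF X) →+* _) h₂ ≫ pt RatFunc.C rfl)
    rw [D.mul Φ fM h₁ h₂ h₃] at key
    conv_rhs at key => rw [← comp_act, hline, eS, ← comp_act, hline, mor_pt]
    conv_lhs at key => rw [eC, ← comp_act, hline, mor_pt]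
    exact (pt_inj key).symm
  · -- a trivial co-action means a trivial action
    refine Over.OverMorphism.ext (Scheme.hom_ext_of_forall _ _ fun z => ?_)
    obtain ⟨_, ⟨U, hU, rfl⟩, hzU, -⟩ :=
      X.left.isBasis_affineOpens.exists_subset_of_mem_open (Set.mem_univ ((snd G X).left z)) isOpen_univ
    have hηU : genericPoint X.left ∈ (U : X.left.Opens) :=
      (genericPoint_specializes _).mem_open U.2 hzU
    obtain ⟨B, _, _, fB, gB, xB, jB, hjB, hinj, hgB, hxB, hfill⟩ := D.fill U hU hηU
    let W : (G ⊗ X).left.Opens := (snd G X).left ⁻¹ᵁ U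
    refine ⟨W, hzU, ?_⟩
    let j : Over.mk (W.ι ≫ (G ⊗ X).hom) ⟶ G ⊗ X := Over.homMk W.ι rfl
    obtain ⟨β, hβg, hβx⟩ := hfill _ (j ≫ fst G X) (j ≫ snd G X) (by
      rintro _ ⟨w, rfl⟩
      exact w.2)
    have hB : lift gB xB ≫ a.act = xB := by
      haveI : IsDominant (Spec.map (CommRingCat.ofHom jB)) :=
        ⟨(PrimeSpectrum.denseRange_comap_iff_ker_le_nilRadical jB).2
          (by rw [(RingHom.injective_iff_ker_eq_bot jB).1 hinj]; exact bot_le)⟩
      haveI : AlgebraicGeometry.IsReduced (Over.mk fB).left :=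
        inferInstanceAs (AlgebraicGeometry.IsReduced (Spec (CommRingCat.of B)))
      refine Over.OverMorphism.ext (ext_of_isDominant_of_isSeparated X.hom
        ((Over.w (lift gB xB ≫ a.act)).trans (Over.w xB).symm) (Spec.map (CommRingCat.ofHom jB)) ?_)
      refine congrArg CommaMorphism.left (show mor jB hjB ≫ lift gB xB ≫ a.act = mor jB hjB ≫ xB from ?_)
      rw [comp_act, hgB, hxB, hline]
      exact Over.OverMorphism.ext (by
        show Spec.map (CommRingCat.ofHom Φ) ≫ xEta X = _
        rw [hΦ]; rfl)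
    refine congrArg CommaMorphism.left (show j ≫ a.act = j ≫ snd G X from ?_)
    calc j ≫ a.act = (j ≫ lift (fst G X) (snd G X)) ≫ a.act := by rw [lift_fst_snd, Category.comp_id]
      _ = lift (j ≫ fst G X) (j ≫ snd G X) ≫ a.act := by rw [comp_lift]
      _ = lift (β ≫ gB) (β ≫ xB) ≫ a.act := by rw [hβg, hβx]
      _ = β ≫ lift gB xB ≫ a.act := (comp_act a β gB xB).symm
      _ = β ≫ xB := by rw [hB]
      _ = j ≫ snd G X := hβx

end Groth.Agent.GaGmBirLib
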